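import Mathlib

set_option autoImplicit false

open Filter Topology Polynomial

namespace Cfsg.Agent.DL.Lef

variable {E : Type*} [NormedField E] [IsUltrametricDist E]

theorem norm_le_one_of_isIntegral {x : E} (hx : IsIntegral ℤ x) : ‖x‖ ≤ 1 := by
  obtain ⟨P, hP, h0⟩ := hx
  by_contra hlt
  push Not at hlt
  have h1 : aeval x P = 0 := h0
  rw [aeval_eq_sum_range, Finset.sum_range_succ, hP.coeff_natDegree, one_smul] at h1
  have h2 : x ^ P.natDegree = - ∑ i ∈ Finset.range P.natDegree, P.coeff i • x ^ i :=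
    eq_neg_of_add_eq_zero_right h1
  rcases Nat.eq_zero_or_pos P.natDegree with hn | hn
  · rw [hn] at h2
    simp at h2
  · have h3 : ‖∑ i ∈ Finset.range P.natDegree, P.coeff i • x ^ i‖ ≤ ‖x‖ ^ (P.natDegree - 1) := by
      refine IsUltrametricDist.norm_sum_le_of_forall_le_of_nonneg (by positivity) fun i hi => ?_
      rw [zsmul_eq_mul, norm_mul, norm_pow]
      refine (mul_le_of_le_one_left (by positivity)
        (IsUltrametricDist.norm_intCast_le_one E _)).trans (pow_le_pow_right₀ hlt.le ?_)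
      have := Finset.mem_range.1 hi
      omega
    rw [← norm_neg, ← h2, norm_pow] at h3
    exact absurd h3 (not_le.2 (pow_lt_pow_right₀ hlt (by omega)))

theorem exists_norm_pow_sub_one_lt {l : ℕ} (hl0 : l ≠ 0) (hl : ‖(l : E)‖ < 1) {x : E}
    (hx : IsIntegral ℤ x) (h1 : ‖x‖ = 1) : ∃ r, 0 < r ∧ ‖x ^ r - 1‖ < 1 := by
  have : NeZero l := ⟨hl0⟩
  obtain ⟨P, hP, h0⟩ := hx
  have h0' : aeval x P = 0 := h0
  have hP1 : P ≠ 1 := by rintro rfl; simp at h0'
  let f : ℕ → (Fin P.natDegree → ZMod l) := fun i j => (((X ^ i %ₘ P).coeff j : ℤ) : ZMod l)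
  have key : ∀ a b : ℕ, f a = f b → ‖x ^ a - x ^ b‖ < 1 := by
    intro a b hab
    have e : ∀ i : ℕ, x ^ i = ∑ j ∈ Finset.range P.natDegree, (X ^ i %ₘ P).coeff j • x ^ j := by
      intro i
      rw [← aeval_eq_sum_range' (natDegree_modByMonic_lt _ hP hP1), aeval_modByMonic_eq_self_of_root h0']
      simp
    rw [e a, e b, ← Finset.sum_sub_distrib]
    refine lt_of_le_of_lt (IsUltrametricDist.norm_sum_le_of_forall_le_of_nonneg (norm_nonneg _)
      fun j hj => ?_) hl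
    have h2 := congrFun hab ⟨j, Finset.mem_range.1 hj⟩
    simp only [f] at h2
    obtain ⟨c, hc⟩ := (ZMod.intCast_eq_intCast_iff_dvd_sub _ _ _).1 h2.symm
    rw [← sub_smul, hc, zsmul_eq_mul, norm_mul, norm_pow, h1, one_pow, mul_one]
    push_cast
    rw [norm_mul]
    exact mul_le_of_le_one_right (norm_nonneg _) (IsUltrametricDist.norm_intCast_le_one E _)
  obtain ⟨a, b, hab, hf⟩ := Finite.exists_ne_map_eq_of_infinite f
  wlog h : b < a generalizing a b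
  · exact this b a hab.symm hf.symm (lt_of_le_of_ne (not_lt.1 h) hab)
  refine ⟨a - b, Nat.sub_pos_of_lt h, ?_⟩
  have h3 := key a b hf
  have h4 : x ^ a - x ^ b = x ^ b * (x ^ (a - b) - 1) := by
    rw [mul_sub, ← pow_add, Nat.add_sub_cancel' h.le, mul_one]
  rwa [h4, norm_mul, norm_pow, h1, one_pow, one_mul] at h3

theorem norm_pow_sub_one_le {x : E} (hx : ‖x‖ ≤ 1) (n : ℕ) : ‖x ^ n - 1‖ ≤ ‖x - 1‖ := by
  rw [← geom_sum_mul, norm_mul]
  refine mul_le_of_le_one_left (norm_nonneg _) ?_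
  refine IsUltrametricDist.norm_sum_le_of_forall_le_of_nonneg zero_le_one fun i _ => ?_
  rw [norm_pow]; exact pow_le_one₀ (norm_nonneg _) hx

theorem norm_pow_sub_one_le_mul {x : E} (hx : ‖x‖ ≤ 1) (l : ℕ) :
    ‖x ^ l - 1‖ ≤ max ‖(l : E)‖ ‖x - 1‖ * ‖x - 1‖ := by
  rw [← geom_sum_mul, norm_mul]
  refine mul_le_mul_of_nonneg_right ?_ (norm_nonneg _)
  have : ∑ i ∈ Finset.range l, x ^ i = l + ∑ i ∈ Finset.range l, (x ^ i - 1) := by
    rw [Finset.sum_sub_distrib]; simp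
  rw [this]
  refine (IsUltrametricDist.norm_add_le_max _ _).trans (max_le_max le_rfl ?_)
  exact IsUltrametricDist.norm_sum_le_of_forall_le_of_nonneg (norm_nonneg _)
    fun i _ => norm_pow_sub_one_le hx i

theorem norm_pow_pow_sub_one_le {x : E} (hx : ‖x‖ ≤ 1) (l k : ℕ) :
    ‖x ^ l ^ k - 1‖ ≤ (max ‖(l : E)‖ ‖x - 1‖) ^ k * ‖x - 1‖ := by
  induction k with
  | zero => simp
  | succ k ih =>
    have h1 : ‖x ^ l ^ k‖ ≤ 1 := by rw [norm_pow]; exact pow_le_one₀ (norm_nonneg _) hx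
    rw [pow_succ, pow_mul]
    refine (norm_pow_sub_one_le_mul h1 l).trans ?_
    rw [pow_succ', mul_assoc]
    exact mul_le_mul (max_le_max le_rfl (norm_pow_sub_one_le hx _)) ih (norm_nonneg _)
      (le_max_of_le_left (norm_nonneg _))

theorem tendsto_pow_factorial_of_unit {l : ℕ} (hl0 : l ≠ 0) (hl : ‖(l : E)‖ < 1) {x : E}
    (hx : IsIntegral ℤ x) (h1 : ‖x‖ = 1) : Tendsto (fun j : ℕ => x ^ j.factorial) atTop (𝓝 1) := by
  obtain ⟨r, hr, hr1⟩ := exists_norm_pow_sub_one_lt hl0 hl hx h1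
  have hxr : ‖x ^ r‖ ≤ 1 := by rw [norm_pow, h1, one_pow]
  set ρ := max ‖(l : E)‖ ‖x ^ r - 1‖ with hρ
  have hρ1 : ρ < 1 := max_lt hl hr1
  have hρ0 : 0 ≤ ρ := le_max_of_le_left (norm_nonneg _)
  rw [Metric.tendsto_atTop]
  intro ε hε
  obtain ⟨k, hk⟩ := exists_pow_lt_of_lt_one hε hρ1
  refine ⟨r * l ^ k, fun j hj => ?_⟩
  obtain ⟨c, hc⟩ : r * l ^ k ∣ j.factorial :=
    Nat.dvd_factorial (Nat.mul_pos hr (pow_pos (Nat.pos_of_ne_zero hl0) k)) hj
  have h2 : ‖(x ^ r) ^ l ^ k‖ ≤ 1 := by rw [norm_pow]; exact pow_le_one₀ (norm_nonneg _) hxr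
  rw [dist_eq_norm, hc, pow_mul, pow_mul]
  refine (norm_pow_sub_one_le h2 c).trans_lt ((norm_pow_pow_sub_one_le hxr l k).trans_lt ?_)
  exact (mul_le_of_le_one_right (by positivity) hr1.le).trans_lt hk

omit [IsUltrametricDist E] in
theorem tendsto_pow_factorial_of_lt {x : E} (h1 : ‖x‖ < 1) :
    Tendsto (fun j : ℕ => x ^ j.factorial) atTop (𝓝 0) :=
  (tendsto_pow_atTop_nhds_zero_of_norm_lt_one h1).comp
    (tendsto_atTop_mono Nat.self_le_factorial tendsto_id)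

end Cfsg.Agent.DL.Lef
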