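import Mathlib

set_option autoImplicit false

namespace Cfsg.Agent.DL.Lef

theorem pow_dvd_card_of_perm {α : Type*} [Finite α] (σ : Equiv.Perm α) {l k b : ℕ} (hl : l.Prime)
    (h1 : σ ^ l ^ b = 1) (h2 : ∀ x, (σ ^ l ^ k) x ≠ x) : l ^ (k + 1) ∣ Nat.card α := by
  classical
  have := Fintype.ofFinite α
  have hs : σ.support = Finset.univ := by
    ext x
    simp only [Equiv.Perm.mem_support, Finset.mem_univ, iff_true]
    intro hx
    exact h2 x (Equiv.Perm.pow_apply_eq_self_of_apply_eq_self hx _)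
  rw [Nat.card_eq_fintype_card, ← Finset.card_univ, ← hs, ← Equiv.Perm.sum_cycleType]
  refine Multiset.dvd_sum fun n hn => ?_
  have h3 : n ∣ l ^ b := (Equiv.Perm.dvd_of_mem_cycleType hn).trans (orderOf_dvd_of_pow_eq_one h1)
  obtain ⟨i, -, rfl⟩ := (Nat.dvd_prime_pow hl).1 h3
  refine pow_dvd_pow l ?_
  by_contra hik
  obtain ⟨c, τ, rfl, hd, hc, hcard⟩ := Equiv.Perm.mem_cycleType_iff.1 hn
  obtain ⟨x, hx, -⟩ := id hc
  have hτ : τ x = x := (hd x).resolve_left hx
  apply h2 x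
  have hc1 : c ^ l ^ k = 1 := by
    rw [← orderOf_dvd_iff_pow_eq_one, hc.orderOf, hcard]
    exact pow_dvd_pow l (by omega)
  rw [hd.commute.mul_pow, hc1, one_mul]
  exact Equiv.Perm.pow_apply_eq_self_of_apply_eq_self hτ _

variable {K X : Type*} [Group K] [MulAction K X]

theorem iterate_smul {Φ : X → X} {g : K} (hΦ : ∀ x, Φ (g • x) = g • Φ x) (n : ℕ) (x : X) :
    Φ^[n] (g • x) = g • Φ^[n] x := by
  induction n with
  | zero => rfl
  | succ n ih => rw [Function.iterate_succ_apply', ih, hΦ, Function.iterate_succ_apply']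

theorem comm_inv_smul {Φ : X → X} {g : K} (hΦ : ∀ x, Φ (g • x) = g • Φ x) (x : X) :
    Φ (g⁻¹ • x) = g⁻¹ • Φ x := by
  rw [eq_inv_smul_iff, ← hΦ, smul_inv_smul]

theorem comm_pow_smul {Φ : X → X} {g : K} (hΦ : ∀ x, Φ (g • x) = g • Φ x) (n : ℕ) (x : X) :
    Φ (g ^ n • x) = g ^ n • Φ x := by
  induction n generalizing x with
  | zero => simp
  | succ n ih => rw [pow_succ, mul_smul, ih, hΦ, mul_smul]

/-- The orbit congruence: points with `Φ^(n l^k) x = s g x` not fixed by the `l`-element `s` come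
in packets of size divisible by `l^(k+1)`. -/
theorem pow_dvd_card_nonfixed {Φ : X → X} (hinj : Function.Injective Φ) {s g : K}
    (hs : ∀ x, Φ (s • x) = s • Φ x) (hg : ∀ x, Φ (g • x) = g • Φ x) (hsg : Commute s g)
    {l a k n : ℕ} (hl : l.Prime) (hsa : s ^ l ^ a = 1) (hgk : g ^ l ^ k = g)
    [Finite {x // Φ^[n * l ^ k] x = (s * g) • x ∧ s • x ≠ x}] :
    l ^ (k + 1) ∣ Nat.card {x // Φ^[n * l ^ k] x = (s * g) • x ∧ s • x ≠ x} := by
  set f : X → X := fun x => g⁻¹ • Φ^[n] x with hf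
  have hfinj : Function.Injective f := fun x y h =>
    hinj.iterate n (MulAction.injective g⁻¹ h)
  have hfs : ∀ x, f (s • x) = s • f x := by
    intro x
    simp only [hf]
    rw [iterate_smul hs, smul_smul, smul_smul, hsg.inv_right.eq]
  have hfit : ∀ j x, f^[j] x = (g⁻¹) ^ j • Φ^[n * j] x := by
    intro j
    induction j with
    | zero => intro x; simp
    | succ j ih =>
      intro x
      rw [Function.iterate_succ_apply', ih]
      simp only [hf]
      rw [iterate_smul (comm_pow_smul (comm_inv_smul hg) j), smul_smul, ← pow_succ',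
        ← Function.iterate_add_apply, Nat.mul_succ, add_comm n]
  have hmem : ∀ x, Φ^[n * l ^ k] x = (s * g) • x ↔ f^[l ^ k] x = s • x := by
    intro x
    rw [hfit, inv_pow, hgk, inv_smul_eq_iff, smul_smul, hsg.eq]
  let F : {x // Φ^[n * l ^ k] x = (s * g) • x ∧ s • x ≠ x} →
      {x // Φ^[n * l ^ k] x = (s * g) • x ∧ s • x ≠ x} := fun x => ⟨f x, by
    rw [hmem, ← Function.iterate_succ_apply, Function.iterate_succ_apply', (hmem x).1 x.2.1, hfs],
    fun h => x.2.2 (hfinj (by rw [hfs, h]))⟩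
  have hF : Function.Injective F := fun x y h => Subtype.ext (hfinj (congrArg Subtype.val h))
  let σ : Equiv.Perm {x // Φ^[n * l ^ k] x = (s * g) • x ∧ s • x ≠ x} :=
    Equiv.ofBijective F (Finite.injective_iff_bijective.1 hF)
  have hσ : ∀ j x, ((σ ^ j) x : X) = f^[j] x := by
    intro j
    induction j with
    | zero => intro x; rfl
    | succ j ih =>
      intro x
      rw [pow_succ', Equiv.Perm.mul_apply, Function.iterate_succ_apply', ← ih]
      rfl
  have hσ2 : ∀ j x, (((σ ^ l ^ k) ^ j) x : X) = s ^ j • (x : X) := by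
    intro j
    induction j with
    | zero => intro x; simp
    | succ j ih =>
      intro x
      rw [pow_succ, Equiv.Perm.mul_apply, ih, hσ, (hmem _).1 x.2.1, smul_smul, ← pow_succ]
  refine pow_dvd_card_of_perm σ (b := k + a) hl ?_ fun x hx => ?_
  · ext x
    rw [pow_add, pow_mul, hσ2, hsa, one_smul]
    rfl
  · have := hσ2 1 x
    rw [pow_one, pow_one, hx] at this
    exact x.2.2 this.symm

theorem card_sub_card_fixed_dvd {Φ : X → X} (hinj : Function.Injective Φ) {s g : K}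
    (hs : ∀ x, Φ (s • x) = s • Φ x) (hg : ∀ x, Φ (g • x) = g • Φ x) (hsg : Commute s g)
    {l a k m : ℕ} (hl : l.Prime) (hsa : s ^ l ^ a = 1) (hgk : g ^ l ^ k = g) (hm : l ^ k ∣ m)
    [Finite {x // Φ^[m] x = (s * g) • x}] :
    ((l : ℤ) ^ (k + 1)) ∣ (Nat.card {x // Φ^[m] x = (s * g) • x} : ℤ) -
      Nat.card {x // s • x = x ∧ Φ^[m] x = g • x} := by
  classical
  obtain ⟨n, rfl⟩ := hm
  rw [mul_comm (l ^ k) n] at *
  have hfin : Finite {x // Φ^[n * l ^ k] x = (s * g) • x ∧ s • x ≠ x} :=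
    Finite.of_injective (fun x => (⟨x.1, x.2.1⟩ : {x // Φ^[n * l ^ k] x = (s * g) • x}))
      fun x y h => Subtype.ext (by simpa using h)
  have h1 := pow_dvd_card_nonfixed hinj hs hg hsg hl hsa hgk (n := n)
  have hfix : ∀ x : X, s • x = x → (s * g) • x = g • x := by
    intro x hx
    rw [hsg.eq, mul_smul, hx]
  have e1 : {x // s • x = x ∧ Φ^[n * l ^ k] x = g • x} ≃
      {y : {x // Φ^[n * l ^ k] x = (s * g) • x} // s • y.1 = y.1} :=
    { toFun := fun x => ⟨⟨x.1, x.2.2.trans (hfix _ x.2.1).symm⟩, x.2.1⟩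
      invFun := fun y => ⟨y.1.1, y.2, y.1.2.trans (hfix _ y.2)⟩
      left_inv := fun _ => rfl
      right_inv := fun _ => rfl }
  have e2 : {x // Φ^[n * l ^ k] x = (s * g) • x ∧ s • x ≠ x} ≃
      {y : {x // Φ^[n * l ^ k] x = (s * g) • x} // ¬ s • y.1 = y.1} :=
    { toFun := fun x => ⟨⟨x.1, x.2.1⟩, x.2.2⟩
      invFun := fun y => ⟨y.1.1, y.1.2, y.2⟩
      left_inv := fun _ => rfl
      right_inv := fun _ => rfl }
  rw [Nat.card_congr e1, ← Nat.card_congr (Equiv.sumCompl
    fun y : {x // Φ^[n * l ^ k] x = (s * g) • x} => s • y.1 = y.1), Nat.card_sum,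
    ← Nat.card_congr e2]
  push_cast
  rw [add_sub_cancel_left]
  exact_mod_cast h1

end Cfsg.Agent.DL.Lef
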