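import Cfsg.Agent.DL.Lef.Exp
import Cfsg.Agent.DL.Lef.Adic
import Cfsg.Agent.DL.Lef.Orbit

set_option autoImplicit false

open Filter Topology
open scoped ComplexConjugate

namespace Cfsg.Agent.DL.Lef

open Cfsg.Agent.DL.Dw

variable {E : Type*} [NormedField E]

/-- The Lefschetz number of `S` is the limit of `S (j!)` for the absolute value `‖ψ ·‖`. -/
def LInd (ψ : ℂ →+* E) (S : ℕ → ℂ) : Prop :=
  ExpC S ∧ Tendsto (fun j : ℕ => ψ (S j.factorial)) atTop (𝓝 (ψ (lef S)))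

/-- All bases of `S` are units for `ψ` and for `ψ ∘ conj`. -/
def UnitBases (ψ : ℂ →+* E) (S : ℕ → ℂ) : Prop :=
  ExpC S ∧ ∀ γ ∈ (spec S).support, ‖ψ γ‖ = 1 ∧ ‖ψ (conj γ)‖ = 1

section closure
variable {ψ : ℂ →+* E} {S T : ℕ → ℂ}

theorem Rep.unitBases {ι : Type*} {s : Finset ι} {a γ : ι → ℂ} (h : Rep s a γ S)
    (hγ : ∀ i ∈ s, ‖ψ (γ i)‖ = 1 ∧ ‖ψ (conj (γ i))‖ = 1) : UnitBases ψ S := by
  refine ⟨h.expC, fun x hx => ?_⟩
  obtain ⟨i, hi, rfl⟩ := h.exists_of_mem_support hx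
  exact hγ i hi

theorem UnitBases.congr (h : UnitBases ψ S) (hST : ∀ m, 0 < m → S m = T m) : UnitBases ψ T :=
  ⟨h.1.congr hST, by rw [← spec_congr hST]; exact h.2⟩

theorem UnitBases.add (hS : UnitBases ψ S) (hT : UnitBases ψ T) :
    UnitBases ψ (fun m => S m + T m) := by
  refine (hS.1.rep.add hT.1.rep).unitBases ?_
  rintro (i | i) hi
  · exact hS.2 i (by simpa using hi)
  · exact hT.2 i (by simpa using hi)

theorem UnitBases.mul (hS : UnitBases ψ S) (hT : UnitBases ψ T) :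
    UnitBases ψ (fun m => S m * T m) := by
  refine (hS.1.rep.mul hT.1.rep).unitBases fun x hx => ?_
  rw [Finset.mem_product] at hx
  simp only [id, map_mul, norm_mul, (hS.2 _ hx.1).1, (hS.2 _ hx.1).2, (hT.2 _ hx.2).1,
    (hT.2 _ hx.2).2, mul_one, and_self]

theorem UnitBases.smul (hS : UnitBases ψ S) (z : ℂ) : UnitBases ψ (fun m => z * S m) :=
  (hS.1.rep.smul z).unitBases hS.2

theorem UnitBases.neg (hS : UnitBases ψ S) : UnitBases ψ (fun m => - S m) :=
  (hS.smul (-1)).congr fun _ _ => by ring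

theorem UnitBases.sub (hS : UnitBases ψ S) (hT : UnitBases ψ T) :
    UnitBases ψ (fun m => S m - T m) := (hS.add hT.neg).congr fun _ _ => by ring

theorem unitBases_geom (z : ℂ) {x : ℂ} (h1 : ‖ψ x‖ = 1) (h2 : ‖ψ (conj x)‖ = 1) :
    UnitBases ψ (fun m => z * x ^ m) :=
  (rep_geom z (by rintro rfl; simp at h1)).unitBases fun _ _ => ⟨h1, h2⟩

theorem unitBases_pow {x : ℂ} (h1 : ‖ψ x‖ = 1) (h2 : ‖ψ (conj x)‖ = 1) :
    UnitBases ψ (fun m => x ^ m) := (unitBases_geom 1 h1 h2).congr fun _ _ => one_mul _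

theorem unitBases_const (z : ℂ) : UnitBases ψ (fun _ => z) :=
  (unitBases_geom (x := 1) z (by simp) (by simp)).congr fun _ _ => by simp

theorem UnitBases.sum {ι : Type*} (s : Finset ι) {f : ι → ℕ → ℂ}
    (hf : ∀ i ∈ s, UnitBases ψ (f i)) : UnitBases ψ (fun m => ∑ i ∈ s, f i m) := by
  classical
  induction s using Finset.induction_on with
  | empty => simpa using unitBases_const 0
  | insert a s ha ih =>
    simp only [Finset.sum_insert ha]
    exact (hf a (by simp)).add (ih fun i hi => hf i (by simp [hi]))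

theorem UnitBases.pow (hS : UnitBases ψ S) (n : ℕ) : UnitBases ψ (fun m => S m ^ n) := by
  induction n with
  | zero => simpa using unitBases_const 1
  | succ n ih => simpa [pow_succ] using ih.mul hS

theorem unitBases_eval_pow {x : ℂ} (h1 : ‖ψ x‖ = 1) (h2 : ‖ψ (conj x)‖ = 1) (P : Polynomial ℂ) :
    UnitBases ψ (fun m => P.eval (x ^ m)) := by
  simp only [Polynomial.eval_eq_sum_range]
  exact UnitBases.sum _ fun i _ => ((unitBases_pow h1 h2).pow i).smul _

/-- roots of unity are units -/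
theorem norm_map_eq_one_of_pow_eq_one (ψ : ℂ →+* E) {x : ℂ} {n : ℕ} (hn : n ≠ 0) (hx : x ^ n = 1) :
    ‖ψ x‖ = 1 ∧ ‖ψ (conj x)‖ = 1 := by
  constructor
  · rw [← pow_eq_one_iff_of_nonneg (norm_nonneg _) hn, ← norm_pow, ← map_pow, hx, map_one, norm_one]
  · rw [← pow_eq_one_iff_of_nonneg (norm_nonneg _) hn, ← norm_pow, ← map_pow, ← map_pow, hx,
      map_one, map_one, norm_one]

theorem LInd.congr (h : LInd ψ S) (hST : ∀ m, 0 < m → S m = T m) : LInd ψ T := by
  refine ⟨h.1.congr hST, ?_⟩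
  rw [← lef_congr hST]
  exact h.2.congr fun j => by rw [hST _ j.factorial_pos]

theorem LInd.add (hS : LInd ψ S) (hT : LInd ψ T) : LInd ψ (fun m => S m + T m) := by
  refine ⟨hS.1.add hT.1, ?_⟩
  rw [lef_add hS.1 hT.1]
  simpa using hS.2.add hT.2

theorem LInd.mul (hS : LInd ψ S) (hT : LInd ψ T) : LInd ψ (fun m => S m * T m) := by
  refine ⟨hS.1.mul hT.1, ?_⟩
  rw [lef_mul hS.1 hT.1]
  simpa using hS.2.mul hT.2

theorem lInd_const (z : ℂ) : LInd ψ (fun _ => z) :=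
  ⟨expC_const z, by rw [lef_const]; exact tendsto_const_nhds⟩

theorem LInd.smul (hS : LInd ψ S) (z : ℂ) : LInd ψ (fun m => z * S m) := (lInd_const z).mul hS

theorem LInd.mul_const (hS : LInd ψ S) (z : ℂ) : LInd ψ (fun m => S m * z) := hS.mul (lInd_const z)

theorem LInd.neg (hS : LInd ψ S) : LInd ψ (fun m => - S m) :=
  (hS.smul (-1)).congr fun _ _ => by ring

theorem LInd.sub (hS : LInd ψ S) (hT : LInd ψ T) : LInd ψ (fun m => S m - T m) :=
  (hS.add hT.neg).congr fun _ _ => by ring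

theorem LInd.sum {ι : Type*} (s : Finset ι) {f : ι → ℕ → ℂ} (hf : ∀ i ∈ s, LInd ψ (f i)) :
    LInd ψ (fun m => ∑ i ∈ s, f i m) := by
  classical
  induction s using Finset.induction_on with
  | empty => simpa using lInd_const 0
  | insert a s ha ih =>
    simp only [Finset.sum_insert ha]
    exact (hf a (by simp)).add (ih fun i hi => hf i (by simp [hi]))

end closure

variable [IsUltrametricDist E]

open Classical in
theorem ExpI.tendsto_unit_part {l : ℕ} (hl0 : l ≠ 0) (hl : ‖(l : E)‖ < 1) (ψ : ℂ →+* E)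
    {S : ℕ → ℂ} (hS : ExpI S) : Tendsto (fun j : ℕ => ψ (S j.factorial)) atTop
      (𝓝 (ψ (wlef (fun γ => if ‖ψ γ‖ = 1 then 1 else 0) S))) := by
  have h1 : ∀ j : ℕ, ψ (S j.factorial) =
      ∑ γ ∈ (spec S).support, ψ (spec S γ) * ψ γ ^ j.factorial := by
    intro j
    rw [hS.1.rep.eq _ j.factorial_pos]
    simp
  simp only [h1, wlef, map_sum, map_mul]
  refine tendsto_finsetSum _ fun γ hγ => Tendsto.const_mul _ ?_
  have hi : IsIntegral ℤ (ψ γ) := (hS.2 γ hγ).map ψ.toIntAlgHom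
  split_ifs with h
  · rw [map_one]; exact tendsto_pow_factorial_of_unit hl0 hl hi h
  · rw [map_zero]
    exact tendsto_pow_factorial_of_lt (lt_of_le_of_ne (norm_le_one_of_isIntegral hi) h)

open Classical in
/-- Purity: if `∑ |a i|²` has unit bases then the non-unit bases of each `a i` cancel. -/
theorem wlef_nonunit_eq_zero (ψ : ℂ →+* E) {ι : Type*} (s : Finset ι) {a : ι → ℕ → ℂ}
    (ha : ∀ i ∈ s, ExpI (a i)) (hP : UnitBases ψ fun m => ∑ i ∈ s, a i m * conj (a i m))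
    {i₀ : ι} (hi₀ : i₀ ∈ s) : wlef (fun γ => if ‖ψ γ‖ = 1 then 0 else 1) (a i₀) = 0 := by
  set v : ℂ → ℝ := fun γ => - Real.log ‖ψ γ‖ with hv
  have hvmul : ∀ x y, x ≠ 0 → y ≠ 0 → v (x * y) = v x + v y := by
    intro x y hx hy
    simp only [hv, map_mul, norm_mul]
    rw [Real.log_mul (by simpa using hx) (by simpa using hy)]; ring
  have hv0 : ∀ x, IsIntegral ℤ x → 0 ≤ v x := by
    intro x hx
    have := Real.log_nonpos (norm_nonneg _) (norm_le_one_of_isIntegral (hx.map ψ.toIntAlgHom))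
    simpa [hv] using this
  have hv1 : ∀ x, x ≠ 0 → (v x = 0 ↔ ‖ψ x‖ = 1) := by
    intro x hx
    have h0 : 0 < ‖ψ x‖ := by simpa using hx
    simp only [hv, neg_eq_zero]
    exact ⟨fun h => Real.eq_one_of_pos_of_log_eq_zero h0 h, fun h => by rw [h, Real.log_one]⟩
  set A := (spec (a i₀)).support with hA
  set M : ℝ := ∑ x ∈ A, |v x - v (conj x)| with hM
  have hM0 : 0 ≤ M := Finset.sum_nonneg fun _ _ => abs_nonneg _
  have hMx : ∀ x ∈ A, |v x - v (conj x)| ≤ M := fun x hx =>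
    Finset.single_le_sum (f := fun x => |v x - v (conj x)|) (fun _ _ => abs_nonneg _) hx
  set τ : ℝ := (1 + 2 * M)⁻¹ with hτ
  have hτ0 : 0 < τ := by positivity
  set e : ℂ → ℂ := fun γ => ((v γ + v (conj γ) : ℝ) : ℂ) +
    ((τ * (v γ - v (conj γ)) : ℝ) : ℂ) * Complex.I with he
  set ξ : ℂ → ℂ := fun γ => Complex.exp (e γ) with hξ
  have hξmul : ∀ x y, x ≠ 0 → y ≠ 0 → ξ (x * y) = ξ x * ξ y := by
    intro x y hx hy
    simp only [hξ, he, ← Complex.exp_add]
    rw [map_mul, hvmul x y hx hy, hvmul _ _ (by simpa using hx) (by simpa using hy)]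
    congr 1
    push_cast
    ring
  have hξconj : ∀ x, ξ (conj x) = conj (ξ x) := by
    intro x
    simp only [hξ, he, ← Complex.exp_conj, Complex.conj_conj, map_add, map_mul, Complex.conj_ofReal,
      Complex.conj_I]
    congr 1
    push_cast
    ring
  have hξnorm : ∀ x, ‖ξ x‖ = Real.exp (v x + v (conj x)) := by
    intro x
    simp only [hξ, he]
    rw [Complex.norm_exp]
    simp
  have hξinj : ∀ x ∈ A, ∀ y ∈ A, ξ x = ξ y → v x = v y := by
    intro x hx y hy hxy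
    obtain ⟨n, hn⟩ := Complex.exp_eq_exp_iff_exists_int.1 hxy
    have h1 := congrArg Complex.re hn
    have h2 := congrArg Complex.im hn
    simp [he] at h1 h2
    have h3 : τ * ((v x - v (conj x)) - (v y - v (conj y))) = n * (2 * Real.pi) := by linarith
    have h4 : |τ * ((v x - v (conj x)) - (v y - v (conj y)))| < 1 := by
      rw [abs_mul, abs_of_pos hτ0, hτ, inv_mul_lt_iff₀ (by positivity)]
      have := abs_sub (v x - v (conj x)) (v y - v (conj y))
      linarith [hMx x hx, hMx y hy]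
    have h5 : n = 0 := by
      by_contra hn0
      have h6 : (1 : ℝ) ≤ |(n : ℝ)| := by exact_mod_cast Int.one_le_abs hn0
      rw [h3, abs_mul, abs_of_pos (by positivity : (0 : ℝ) < 2 * Real.pi)] at h4
      nlinarith [Real.pi_gt_three]
    rw [h5] at h3
    simp only [Int.cast_zero, zero_mul, mul_eq_zero, hτ0.ne', false_or] at h3
    linarith
  -- the bound
  set N : ℂ := lef fun m => ∑ i ∈ s, a i m * conj (a i m) with hN
  have hbound : ∀ n : ℕ, ‖wlef (fun γ => ξ γ ^ n) (a i₀)‖ ≤ Real.sqrt ‖N‖ := by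
    intro n
    have h1 : wlef (fun γ => ξ γ ^ n) (fun m => ∑ i ∈ s, a i m * conj (a i m)) = N := by
      rw [hN, lef, wlef, wlef]
      refine Finset.sum_congr rfl fun γ hγ => ?_
      have h2 := hP.2 γ hγ
      have h3 : ξ γ = 1 := by simp [hξ, he, hv, h2.1, h2.2]
      rw [h3, one_pow]
    rw [wlef_sum _ s fun i hi => (ha i hi).1.mul (ha i hi).1.conj] at h1
    have h2 : ∀ i ∈ s, wlef (fun γ => ξ γ ^ n) (fun m => a i m * conj (a i m)) =
        ((‖wlef (fun γ => ξ γ ^ n) (a i)‖ ^ 2 : ℝ) : ℂ) := by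
      intro i hi
      rw [wlef_mul _ (fun x y hx hy => by rw [hξmul x y hx hy, mul_pow]) (ha i hi).1
        (ha i hi).1.conj, wlef_conj _ (fun x => by rw [hξconj, map_pow]) (ha i hi).1,
        Complex.mul_conj, Complex.normSq_eq_norm_sq]
    rw [Finset.sum_congr rfl h2, ← Complex.ofReal_sum] at h1
    refine Real.le_sqrt_of_sq_le ?_
    rw [← h1, Complex.norm_real]
    exact (Finset.single_le_sum (f := fun i => ‖wlef (fun γ => ξ γ ^ n) (a i)‖ ^ 2)
      (fun _ _ => by positivity) hi₀).trans (le_abs_self _)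
  set c : ℂ → ℂ := fun η => ∑ γ ∈ A with ξ γ = η, spec (a i₀) γ with hc
  have hfib : ∀ w : ℂ → ℂ, ∑ γ ∈ A, spec (a i₀) γ * w (ξ γ) = ∑ η ∈ A.image ξ, c η * w η := by
    intro w
    rw [← Finset.sum_fiberwise_of_maps_to (g := ξ) (t := A.image ξ)
      (fun x hx => Finset.mem_image_of_mem ξ hx)]
    refine Finset.sum_congr rfl fun η _ => ?_
    rw [hc, Finset.sum_mul]
    refine Finset.sum_congr rfl fun γ hγ => ?_
    rw [(Finset.mem_filter.1 hγ).2]
  have hle : ∀ η ∈ A.image ξ, c η ≠ 0 → ‖η‖ ≤ 1 := fun η hη hcη =>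
    norm_le_of_expSum_le (A.image ξ) c (Real.sqrt ‖N‖) 1 zero_le_one (fun m _ => by
      rw [← hfib (fun η => η ^ m), one_pow, mul_one]; exact hbound m) η hη hcη
  have hw : ∀ γ ∈ A, (if ‖ψ γ‖ = 1 then (0 : ℂ) else 1) =
      if ∃ x ∈ A, ξ x = ξ γ ∧ ‖ψ x‖ ≠ 1 then 1 else 0 := by
    intro γ hγ
    by_cases h : ‖ψ γ‖ = 1
    · rw [if_pos h, if_neg]
      rintro ⟨x, hx, h1, h2⟩
      apply h2
      rw [← hv1 x ((ha i₀ hi₀).1.rep.ne x hx), hξinj x hx γ hγ h1,
        hv1 γ ((ha i₀ hi₀).1.rep.ne γ hγ), h]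
    · rw [if_neg h, if_pos ⟨γ, hγ, rfl, h⟩]
  rw [wlef, ← hA, Finset.sum_congr rfl fun γ hγ => by rw [hw γ hγ],
    hfib fun η => if ∃ x ∈ A, ξ x = η ∧ ‖ψ x‖ ≠ 1 then 1 else 0]
  refine Finset.sum_eq_zero fun η hη => ?_
  split_ifs with h
  · obtain ⟨x, hx, rfl, h2⟩ := h
    rw [mul_one]
    by_contra hc0
    have h3 := hle _ hη hc0
    rw [hξnorm, Real.exp_le_one_iff] at h3
    have h4 := hv0 x ((ha i₀ hi₀).2 x hx)
    have h5 := hv0 _ (isIntegral_conj ((ha i₀ hi₀).2 x hx))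
    exact h2 ((hv1 x ((ha i₀ hi₀).1.rep.ne x hx)).1 (by linarith))
  · rw [mul_zero]

/-- Purity implies `l`-independence of the Lefschetz number. -/
theorem lInd_of_unitBases {l : ℕ} (hl0 : l ≠ 0) (hl : ‖(l : E)‖ < 1) (ψ : ℂ →+* E) {ι : Type*}
    (s : Finset ι) {a : ι → ℕ → ℂ} (ha : ∀ i ∈ s, ExpI (a i))
    (hP : UnitBases ψ fun m => ∑ i ∈ s, a i m * conj (a i m)) {i₀ : ι} (hi₀ : i₀ ∈ s) :
    LInd ψ (a i₀) := by
  classical
  refine ⟨(ha i₀ hi₀).1, ?_⟩
  have h1 := (ha i₀ hi₀).tendsto_unit_part hl0 hl ψ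
  have h2 := wlef_nonunit_eq_zero ψ s ha hP hi₀
  have h3 : lef (a i₀) = wlef (fun γ => if ‖ψ γ‖ = 1 then 1 else 0) (a i₀) := by
    have h4 : lef (a i₀) = wlef (fun γ => if ‖ψ γ‖ = 1 then 1 else 0) (a i₀) +
        wlef (fun γ => if ‖ψ γ‖ = 1 then 0 else 1) (a i₀) := by
      rw [lef, wlef, wlef, wlef, ← Finset.sum_add_distrib]
      refine Finset.sum_congr rfl fun γ _ => ?_
      split_ifs <;> simp
    rw [h4, h2, add_zero]
  rwa [h3]

/-- a sequence with integral unit bases is `l`-independent -/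
theorem UnitBases.lInd {l : ℕ} (hl0 : l ≠ 0) (hl : ‖(l : E)‖ < 1) {ψ : ℂ →+* E} {S : ℕ → ℂ}
    (hS : UnitBases ψ S) (hI : ExpI S) : LInd ψ S := by
  classical
  refine ⟨hS.1, ?_⟩
  have h1 := hI.tendsto_unit_part hl0 hl ψ
  have h3 : lef S = wlef (fun γ => if ‖ψ γ‖ = 1 then 1 else 0) S := by
    rw [lef, wlef, wlef]
    refine Finset.sum_congr rfl fun γ hγ => ?_
    rw [if_pos (hS.2 γ hγ).1]
  rwa [h3]

/-- `l`-adically close sequences have the same Lefschetz number. -/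
theorem lef_eq_of_congr {l : ℕ} (hl : ‖(l : E)‖ < 1) {ψ : ℂ →+* E} {S T : ℕ → ℂ} (hS : LInd ψ S)
    (hT : LInd ψ T)
    (h : ∀ k : ℕ, ∀ᶠ j : ℕ in atTop, ∃ n : ℤ, S j.factorial - T j.factorial = (l : ℂ) ^ k * n) :
    lef S = lef T := by
  have h1 := (hS.2.sub hT.2).norm
  have h2 : ∀ k : ℕ, ‖ψ (lef S) - ψ (lef T)‖ ≤ ‖(l : E)‖ ^ k := by
    intro k
    refine le_of_tendsto h1 ((h k).mono fun j ⟨n, hn⟩ => ?_)
    rw [← map_sub, hn, map_mul, map_pow, map_natCast, map_intCast, norm_mul, norm_pow]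
    exact mul_le_of_le_one_right (by positivity) (IsUltrametricDist.norm_intCast_le_one E _)
  have h3 : ‖ψ (lef S) - ψ (lef T)‖ ≤ 0 :=
    ge_of_tendsto' (tendsto_pow_atTop_nhds_zero_of_lt_one (norm_nonneg _) hl) h2
  exact ψ.injective (sub_eq_zero.1 (norm_le_zero_iff.1 h3))

/-- The fixed point formula for an `l`-element `s` commuting with an `l'`-element `g`. -/
theorem lef_fixed_point {K X : Type*} [Group K] [MulAction K X] {Φ : X → X}
    (hinj : Function.Injective Φ) {s g : K} (hs : ∀ x, Φ (s • x) = s • Φ x)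
    (hg : ∀ x, Φ (g • x) = g • Φ x) (hsg : Commute s g) {l a : ℕ} (hlp : l.Prime)
    (hsa : s ^ l ^ a = 1) (hgl : (orderOf g).Coprime l)
    (hfin : ∀ m, 0 < m → Finite {x // Φ^[m] x = (s * g) • x})
    (hl : ‖(l : E)‖ < 1) {ψ : ℂ →+* E}
    (h1 : LInd ψ fun m => (Nat.card {x // Φ^[m] x = (s * g) • x} : ℂ))
    (h2 : LInd ψ fun m => (Nat.card {x // s • x = x ∧ Φ^[m] x = g • x} : ℂ)) :
    lef (fun m => (Nat.card {x // Φ^[m] x = (s * g) • x} : ℂ)) =
      lef fun m => (Nat.card {x // s • x = x ∧ Φ^[m] x = g • x} : ℂ) := by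
  refine lef_eq_of_congr hl h1 h2 fun k => ?_
  have ho : 0 < orderOf g := by
    rw [Nat.pos_iff_ne_zero]
    intro h0
    rw [h0, Nat.coprime_zero_left] at hgl
    exact hlp.ne_one hgl
  set d := (orderOf g).totient with hd
  have hd0 : 0 < d := Nat.totient_pos.2 ho
  have hgk : g ^ l ^ (d * k) = g := by
    have h3 : l ^ (d * k) ≡ 1 [MOD orderOf g] := by
      have := (Nat.ModEq.pow_totient hgl.symm).pow k
      rwa [one_pow, ← pow_mul] at this
    rw [pow_eq_pow_iff_modEq.2 h3, pow_one]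
  refine (eventually_ge_atTop (l ^ (d * k))).mono fun j hj => ?_
  have := hfin _ j.factorial_pos
  obtain ⟨n, hn⟩ := (pow_dvd_pow (l : ℤ) (by nlinarith : k ≤ d * k + 1)).trans
    (card_sub_card_fixed_dvd hinj hs hg hsg hlp hsa hgk
      (Nat.dvd_factorial (pow_pos hlp.pos _) hj))
  exact ⟨n, by exact_mod_cast hn⟩

theorem padicComplex_norm_lt_one (l : ℕ) [Fact l.Prime] : ‖(l : ℂ_[l])‖ < 1 := by
  have h1 : ‖(l : ℂ_[l])‖ = ‖(l : ℚ_[l])‖ := by
    rw [← PadicComplex.norm_extends' l (l : ℚ_[l])]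
    congr 1
    rw [PadicComplex.coe_eq, map_natCast, map_natCast]
  rw [h1]
  exact Padic.norm_p_lt_one

theorem padicComplex_norm_natCast_of_coprime (l : ℕ) [Fact l.Prime] {n : ℕ} (h : l.Coprime n) :
    ‖(n : ℂ_[l])‖ = 1 := by
  have h1 : ‖(n : ℂ_[l])‖ = ‖(n : ℚ_[l])‖ := by
    rw [← PadicComplex.norm_extends' l (n : ℚ_[l])]
    congr 1
    rw [PadicComplex.coe_eq, map_natCast, map_natCast]
  rw [h1, Padic.norm_natCast_eq_one_iff]
  exact h

end Cfsg.Agent.DL.Lef
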