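import Cfsg.Agent.DL.Dw.ExpSum

set_option autoImplicit false

open scoped ComplexConjugate

namespace Cfsg.Agent.DL.Lef

open Cfsg.Agent.DL.Dw

/-- `S m = ∑ a i * γ i ^ m` for `m > 0`, with non-zero bases. -/
structure Rep {ι : Type*} (s : Finset ι) (a γ : ι → ℂ) (S : ℕ → ℂ) : Prop where
  ne : ∀ i ∈ s, γ i ≠ 0
  eq : ∀ m, 0 < m → S m = ∑ i ∈ s, a i * γ i ^ m

/-- exponential sums with complex coefficients -/
def ExpC (S : ℕ → ℂ) : Prop := ∃ c : ℂ →₀ ℂ, Rep c.support c id S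

open Classical in
/-- the coefficient function of an exponential sum -/
noncomputable def spec (S : ℕ → ℂ) : ℂ →₀ ℂ := if h : ExpC S then h.choose else 0

/-- weighted sum of the coefficients -/
noncomputable def wlef (w : ℂ → ℂ) (S : ℕ → ℂ) : ℂ := ∑ γ ∈ (spec S).support, spec S γ * w γ

/-- the "value at `m = 0`" (Lefschetz number) -/
noncomputable def lef (S : ℕ → ℂ) : ℂ := wlef (fun _ => 1) S

/-- exponential sums whose bases are algebraic integers -/
def ExpI (S : ℕ → ℂ) : Prop := ExpC S ∧ ∀ γ ∈ (spec S).support, IsIntegral ℤ γ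

/-- exponential sums with integer coefficients whose bases are algebraic integers -/
def ExpZ (S : ℕ → ℂ) : Prop := ExpI S ∧ ∀ γ, ∃ n : ℤ, spec S γ = n

theorem ExpC.rep {S : ℕ → ℂ} (h : ExpC S) : Rep (spec S).support (spec S) id S := by
  rw [spec, dif_pos h]; exact h.choose_spec

theorem ExpI.expC {S : ℕ → ℂ} (h : ExpI S) : ExpC S := h.1
theorem ExpZ.expI {S : ℕ → ℂ} (h : ExpZ S) : ExpI S := h.1
theorem ExpZ.expC {S : ℕ → ℂ} (h : ExpZ S) : ExpC S := h.1.1

section rep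
variable {ι : Type*} {s : Finset ι} {a γ : ι → ℂ} {S : ℕ → ℂ}

theorem Rep.congr (h : Rep s a γ S) {T : ℕ → ℂ} (hST : ∀ m, 0 < m → S m = T m) : Rep s a γ T :=
  ⟨h.ne, fun m hm => (hST m hm).symm.trans (h.eq m hm)⟩

theorem sum_single_sum (s : Finset ι) (a γ : ι → ℂ) (w : ℂ → ℂ) :
    ((∑ i ∈ s, Finsupp.single (γ i) (a i) : ℂ →₀ ℂ).sum fun x k => k * w x) =
      ∑ i ∈ s, a i * w (γ i) := by
  rw [← Finsupp.sum_finsetSum_index (by simp) (fun _ _ _ => by ring)]
  refine Finset.sum_congr rfl fun i _ => ?_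
  rw [Finsupp.sum_single_index (by simp)]

theorem mem_support_sum_single {x : ℂ}
    (hx : x ∈ (∑ i ∈ s, Finsupp.single (γ i) (a i) : ℂ →₀ ℂ).support) : ∃ i ∈ s, γ i = x := by
  classical
  obtain ⟨i, hi, h⟩ := Finset.mem_biUnion.1 (Finsupp.support_finsetSum hx)
  exact ⟨i, hi, (Finset.mem_singleton.1 (Finsupp.support_single_subset h)).symm⟩

theorem Rep.rep_sum_single (h : Rep s a γ S) :
    Rep (∑ i ∈ s, Finsupp.single (γ i) (a i) : ℂ →₀ ℂ).support
      (∑ i ∈ s, Finsupp.single (γ i) (a i) : ℂ →₀ ℂ) id S := by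
  refine ⟨fun x hx => ?_, fun m hm => ?_⟩
  · obtain ⟨i, hi, rfl⟩ := mem_support_sum_single hx
    exact h.ne i hi
  · rw [h.eq m hm, ← sum_single_sum s a γ (fun x => x ^ m)]
    rfl

theorem Rep.expC (h : Rep s a γ S) : ExpC S := ⟨_, h.rep_sum_single⟩

theorem spec_eq_of_rep {c : ℂ →₀ ℂ} (h : Rep c.support c id S) : spec S = c := by
  have h' := ExpC.rep ⟨c, h⟩
  have h0 : ∀ {d : ℂ →₀ ℂ}, Rep d.support d id S → d 0 = 0 := by
    intro d hd
    by_contra h0
    exact hd.ne 0 (Finsupp.mem_support_iff.2 h0) rfl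
  refine finsupp_eq_of_expSum_eq _ _ (h0 h') (h0 h) 1 fun m hm => ?_
  exact (h'.eq m hm).symm.trans (h.eq m hm)

theorem Rep.spec_eq (h : Rep s a γ S) : spec S = ∑ i ∈ s, Finsupp.single (γ i) (a i) :=
  spec_eq_of_rep h.rep_sum_single

theorem Rep.wlef_eq (h : Rep s a γ S) (w : ℂ → ℂ) : wlef w S = ∑ i ∈ s, a i * w (γ i) := by
  rw [wlef, h.spec_eq, ← sum_single_sum s a γ w]
  rfl

theorem Rep.lef_eq (h : Rep s a γ S) : lef S = ∑ i ∈ s, a i := by
  rw [lef, h.wlef_eq]; simp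

theorem Rep.exists_of_mem_support (h : Rep s a γ S) {x : ℂ} (hx : x ∈ (spec S).support) :
    ∃ i ∈ s, γ i = x := by
  rw [h.spec_eq] at hx
  exact mem_support_sum_single hx

theorem Rep.expI (h : Rep s a γ S) (hγ : ∀ i ∈ s, IsIntegral ℤ (γ i)) : ExpI S := by
  refine ⟨h.expC, fun x hx => ?_⟩
  obtain ⟨i, hi, rfl⟩ := h.exists_of_mem_support hx
  exact hγ i hi

theorem Rep.expZ (h : Rep s a γ S) (hγ : ∀ i ∈ s, IsIntegral ℤ (γ i))
    (ha : ∀ i ∈ s, ∃ n : ℤ, a i = n) : ExpZ S := by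
  classical
  refine ⟨h.expI hγ, fun x => ?_⟩
  choose! n hn using ha
  refine ⟨∑ i ∈ s, if γ i = x then n i else 0, ?_⟩
  rw [h.spec_eq, Finsupp.finsetSum_apply]
  push_cast
  refine Finset.sum_congr rfl fun i hi => ?_
  rw [Finsupp.single_apply, hn i hi]

theorem Rep.add {κ : Type*} {t : Finset κ} {b δ : κ → ℂ} {T : ℕ → ℂ} (h : Rep s a γ S)
    (h' : Rep t b δ T) : Rep (s.disjSum t) (Sum.elim a b) (Sum.elim γ δ) (fun m => S m + T m) := by
  refine ⟨?_, fun m hm => ?_⟩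
  · rintro (i | i) hi
    · exact h.ne i (by simpa using hi)
    · exact h'.ne i (by simpa using hi)
  · rw [Finset.sum_disjSum, h.eq m hm, h'.eq m hm]; simp

theorem Rep.mul {κ : Type*} {t : Finset κ} {b δ : κ → ℂ} {T : ℕ → ℂ} (h : Rep s a γ S)
    (h' : Rep t b δ T) : Rep (s ×ˢ t) (fun x => a x.1 * b x.2) (fun x => γ x.1 * δ x.2)
      (fun m => S m * T m) := by
  refine ⟨fun x hx => ?_, fun m hm => ?_⟩
  · rw [Finset.mem_product] at hx
    exact mul_ne_zero (h.ne _ hx.1) (h'.ne _ hx.2)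
  · rw [h.eq m hm, h'.eq m hm, Finset.sum_mul_sum, Finset.sum_product]
    refine Finset.sum_congr rfl fun i _ => Finset.sum_congr rfl fun j _ => ?_
    rw [mul_pow]; ring

theorem Rep.smul (h : Rep s a γ S) (z : ℂ) : Rep s (fun i => z * a i) γ (fun m => z * S m) :=
  ⟨h.ne, fun m hm => by rw [h.eq m hm, Finset.mul_sum]; simp only [mul_assoc]⟩

theorem Rep.conj (h : Rep s a γ S) :
    Rep s (fun i => conj (a i)) (fun i => conj (γ i)) (fun m => conj (S m)) :=
  ⟨fun i hi => by simpa using h.ne i hi, fun m hm => by rw [h.eq m hm]; simp⟩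

theorem Rep.comp_mul (h : Rep s a γ S) {k : ℕ} (hk : 0 < k) :
    Rep s a (fun i => γ i ^ k) (fun m => S (k * m)) :=
  ⟨fun i hi => pow_ne_zero _ (h.ne i hi), fun m hm => by
    rw [h.eq _ (Nat.mul_pos hk hm)]; simp only [pow_mul]⟩

theorem rep_geom (z : ℂ) {x : ℂ} (hx : x ≠ 0) :
    Rep (Finset.univ : Finset Unit) (fun _ => z) (fun _ => x) (fun m => z * x ^ m) :=
  ⟨fun _ _ => hx, fun m _ => by simp⟩

theorem rep_zero : Rep (∅ : Finset Unit) (fun _ => 0) (fun _ => 1) (fun _ => 0) :=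
  ⟨fun _ _ => one_ne_zero, fun m _ => by simp⟩

end rep

section closure
variable {S T : ℕ → ℂ}

theorem ExpC.congr (h : ExpC S) (hST : ∀ m, 0 < m → S m = T m) : ExpC T :=
  (h.rep.congr hST).expC

theorem spec_congr (hST : ∀ m, 0 < m → S m = T m) : spec S = spec T := by
  by_cases h : ExpC S
  · exact (spec_eq_of_rep (h.rep.congr hST)).symm
  · have h' : ¬ ExpC T := fun h' => h (h'.congr fun m hm => (hST m hm).symm)
    rw [spec, spec, dif_neg h, dif_neg h']

theorem wlef_congr (w : ℂ → ℂ) (hST : ∀ m, 0 < m → S m = T m) : wlef w S = wlef w T := by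
  rw [wlef, wlef, spec_congr hST]

theorem lef_congr (hST : ∀ m, 0 < m → S m = T m) : lef S = lef T := wlef_congr _ hST

theorem ExpI.congr (h : ExpI S) (hST : ∀ m, 0 < m → S m = T m) : ExpI T :=
  ⟨h.1.congr hST, by rw [← spec_congr hST]; exact h.2⟩

theorem ExpZ.congr (h : ExpZ S) (hST : ∀ m, 0 < m → S m = T m) : ExpZ T :=
  ⟨h.1.congr hST, by rw [← spec_congr hST]; exact h.2⟩

/-- the shape produced by `Dw.dwork_complex` -/
theorem expZ_of_finsupp (h : ∃ ν : ℂ →₀ ℤ, ν 0 = 0 ∧ (∀ γ ∈ ν.support, IsIntegral ℤ γ) ∧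
    ∀ m, 0 < m → S m = ν.sum fun γ k => (k : ℂ) * γ ^ m) : ExpZ S := by
  obtain ⟨ν, h0, h1, h2⟩ := h
  have : Rep ν.support (fun γ => (ν γ : ℂ)) id S :=
    ⟨fun γ hγ h => Finsupp.mem_support_iff.1 hγ (by rw [show γ = 0 from h, h0]), h2⟩
  exact this.expZ h1 fun γ _ => ⟨ν γ, rfl⟩

theorem ExpC.add (hS : ExpC S) (hT : ExpC T) : ExpC (fun m => S m + T m) :=
  (hS.rep.add hT.rep).expC

theorem ExpC.mul (hS : ExpC S) (hT : ExpC T) : ExpC (fun m => S m * T m) :=
  (hS.rep.mul hT.rep).expC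

theorem ExpC.smul (hS : ExpC S) (z : ℂ) : ExpC (fun m => z * S m) := (hS.rep.smul z).expC

theorem ExpC.mul_const (hS : ExpC S) (z : ℂ) : ExpC (fun m => S m * z) :=
  (hS.smul z).congr fun _ _ => mul_comm _ _

theorem ExpC.neg (hS : ExpC S) : ExpC (fun m => - S m) :=
  (hS.smul (-1)).congr fun _ _ => by ring

theorem ExpC.sub (hS : ExpC S) (hT : ExpC T) : ExpC (fun m => S m - T m) :=
  (hS.add hT.neg).congr fun _ _ => by ring

theorem ExpC.conj (hS : ExpC S) : ExpC (fun m => conj (S m)) := hS.rep.conj.expC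

theorem ExpC.comp_mul (hS : ExpC S) {k : ℕ} (hk : 0 < k) : ExpC (fun m => S (k * m)) :=
  (hS.rep.comp_mul hk).expC

theorem expC_geom (z : ℂ) {x : ℂ} (hx : x ≠ 0) : ExpC (fun m => z * x ^ m) := (rep_geom z hx).expC

theorem expC_pow {x : ℂ} (hx : x ≠ 0) : ExpC (fun m => x ^ m) :=
  (expC_geom 1 hx).congr fun _ _ => one_mul _

theorem expC_const (z : ℂ) : ExpC (fun _ => z) :=
  (expC_geom z one_ne_zero).congr fun _ _ => by simp

theorem ExpC.sum {ι : Type*} (s : Finset ι) {f : ι → ℕ → ℂ} (hf : ∀ i ∈ s, ExpC (f i)) :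
    ExpC (fun m => ∑ i ∈ s, f i m) := by
  classical
  induction s using Finset.induction_on with
  | empty => simpa using expC_const 0
  | insert a s ha ih =>
    simp only [Finset.sum_insert ha]
    exact (hf a (by simp)).add (ih fun i hi => hf i (by simp [hi]))

theorem ExpC.prod {ι : Type*} (s : Finset ι) {f : ι → ℕ → ℂ} (hf : ∀ i ∈ s, ExpC (f i)) :
    ExpC (fun m => ∏ i ∈ s, f i m) := by
  classical
  induction s using Finset.induction_on with
  | empty => simpa using expC_const 1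
  | insert a s ha ih =>
    simp only [Finset.prod_insert ha]
    exact (hf a (by simp)).mul (ih fun i hi => hf i (by simp [hi]))

theorem ExpC.pow (hS : ExpC S) (n : ℕ) : ExpC (fun m => S m ^ n) := by
  simpa using ExpC.prod (Finset.range n) (f := fun _ => S) fun _ _ => hS

theorem ExpI.add (hS : ExpI S) (hT : ExpI T) : ExpI (fun m => S m + T m) := by
  refine (hS.1.rep.add hT.1.rep).expI ?_
  rintro (i | i) hi
  · exact hS.2 i (by simpa using hi)
  · exact hT.2 i (by simpa using hi)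

theorem ExpI.mul (hS : ExpI S) (hT : ExpI T) : ExpI (fun m => S m * T m) := by
  refine (hS.1.rep.mul hT.1.rep).expI fun x hx => ?_
  rw [Finset.mem_product] at hx
  exact (hS.2 _ hx.1).mul (hT.2 _ hx.2)

theorem ExpI.smul (hS : ExpI S) (z : ℂ) : ExpI (fun m => z * S m) := (hS.1.rep.smul z).expI hS.2

theorem ExpI.mul_const (hS : ExpI S) (z : ℂ) : ExpI (fun m => S m * z) :=
  (hS.smul z).congr fun _ _ => mul_comm _ _

theorem ExpI.neg (hS : ExpI S) : ExpI (fun m => - S m) :=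
  (hS.smul (-1)).congr fun _ _ => by ring

theorem ExpI.sub (hS : ExpI S) (hT : ExpI T) : ExpI (fun m => S m - T m) :=
  (hS.add hT.neg).congr fun _ _ => by ring

theorem isIntegral_conj {x : ℂ} (hx : IsIntegral ℤ x) : IsIntegral ℤ (conj x) :=
  hx.map (starRingEnd ℂ).toIntAlgHom

theorem ExpI.conj (hS : ExpI S) : ExpI (fun m => conj (S m)) :=
  hS.1.rep.conj.expI fun i hi => isIntegral_conj (hS.2 i hi)

theorem ExpI.comp_mul (hS : ExpI S) {k : ℕ} (hk : 0 < k) : ExpI (fun m => S (k * m)) :=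
  (hS.1.rep.comp_mul hk).expI fun i hi => (hS.2 i hi).pow k

theorem expI_geom (z : ℂ) {x : ℂ} (hx : x ≠ 0) (hi : IsIntegral ℤ x) :
    ExpI (fun m => z * x ^ m) := (rep_geom z hx).expI fun _ _ => hi

theorem expI_const (z : ℂ) : ExpI (fun _ => z) :=
  (expI_geom z one_ne_zero isIntegral_one).congr fun _ _ => by simp

theorem ExpI.sum {ι : Type*} (s : Finset ι) {f : ι → ℕ → ℂ} (hf : ∀ i ∈ s, ExpI (f i)) :
    ExpI (fun m => ∑ i ∈ s, f i m) := by
  classical
  induction s using Finset.induction_on with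
  | empty => simpa using expI_const 0
  | insert a s ha ih =>
    simp only [Finset.sum_insert ha]
    exact (hf a (by simp)).add (ih fun i hi => hf i (by simp [hi]))

theorem ExpZ.add (hS : ExpZ S) (hT : ExpZ T) : ExpZ (fun m => S m + T m) := by
  refine (hS.expC.rep.add hT.expC.rep).expZ ?_ ?_
  · rintro (i | i) hi
    · exact hS.1.2 i (by simpa using hi)
    · exact hT.1.2 i (by simpa using hi)
  · rintro (i | i) -
    · exact hS.2 i
    · exact hT.2 i

theorem ExpZ.mul (hS : ExpZ S) (hT : ExpZ T) : ExpZ (fun m => S m * T m) := by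
  refine (hS.expC.rep.mul hT.expC.rep).expZ (fun x hx => ?_) fun x _ => ?_
  · rw [Finset.mem_product] at hx
    exact (hS.1.2 _ hx.1).mul (hT.1.2 _ hx.2)
  · obtain ⟨a, ha⟩ := hS.2 x.1
    obtain ⟨b, hb⟩ := hT.2 x.2
    exact ⟨a * b, by rw [ha, hb]; push_cast; rfl⟩

theorem ExpZ.zsmul (hS : ExpZ S) (n : ℤ) : ExpZ (fun m => (n : ℂ) * S m) := by
  refine (hS.expC.rep.smul n).expZ hS.1.2 fun x _ => ?_
  obtain ⟨a, ha⟩ := hS.2 x
  exact ⟨n * a, by rw [ha]; push_cast; rfl⟩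

theorem ExpZ.neg (hS : ExpZ S) : ExpZ (fun m => - S m) :=
  (hS.zsmul (-1)).congr fun _ _ => by push_cast; ring

theorem ExpZ.sub (hS : ExpZ S) (hT : ExpZ T) : ExpZ (fun m => S m - T m) :=
  (hS.add hT.neg).congr fun _ _ => by ring

theorem ExpZ.conj (hS : ExpZ S) : ExpZ (fun m => conj (S m)) := by
  refine hS.expC.rep.conj.expZ (fun i hi => isIntegral_conj (hS.1.2 i hi)) fun x _ => ?_
  obtain ⟨a, ha⟩ := hS.2 x
  exact ⟨a, by rw [ha]; simp⟩

theorem ExpZ.comp_mul (hS : ExpZ S) {k : ℕ} (hk : 0 < k) : ExpZ (fun m => S (k * m)) :=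
  (hS.expC.rep.comp_mul hk).expZ (fun i hi => (hS.1.2 i hi).pow k) fun x _ => hS.2 x

theorem expZ_geom (n : ℤ) {x : ℂ} (hx : x ≠ 0) (hi : IsIntegral ℤ x) :
    ExpZ (fun m => (n : ℂ) * x ^ m) := (rep_geom n hx).expZ (fun _ _ => hi) fun _ _ => ⟨n, rfl⟩

theorem expZ_const (n : ℤ) : ExpZ (fun _ => (n : ℂ)) :=
  (expZ_geom n one_ne_zero isIntegral_one).congr fun _ _ => by simp

theorem ExpZ.sum {ι : Type*} (s : Finset ι) {f : ι → ℕ → ℂ} (hf : ∀ i ∈ s, ExpZ (f i)) :
    ExpZ (fun m => ∑ i ∈ s, f i m) := by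
  classical
  induction s using Finset.induction_on with
  | empty => simpa using expZ_const 0
  | insert a s ha ih =>
    simp only [Finset.sum_insert ha]
    exact (hf a (by simp)).add (ih fun i hi => hf i (by simp [hi]))

theorem ExpZ.exists_lef (hS : ExpZ S) : ∃ n : ℤ, lef S = n := by
  choose n hn using hS.2
  refine ⟨∑ γ ∈ (spec S).support, n γ, ?_⟩
  rw [hS.expC.rep.lef_eq]
  push_cast
  exact Finset.sum_congr rfl fun γ _ => hn γ

end closure

section wlef
variable {S T : ℕ → ℂ} (w : ℂ → ℂ)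

theorem wlef_add (hS : ExpC S) (hT : ExpC T) :
    wlef w (fun m => S m + T m) = wlef w S + wlef w T := by
  rw [(hS.rep.add hT.rep).wlef_eq, Finset.sum_disjSum]; rfl

theorem wlef_smul (hS : ExpC S) (z : ℂ) : wlef w (fun m => z * S m) = z * wlef w S := by
  rw [(hS.rep.smul z).wlef_eq, wlef, Finset.mul_sum]
  simp only [mul_assoc, id]

theorem wlef_mul (hw : ∀ x y, x ≠ 0 → y ≠ 0 → w (x * y) = w x * w y) (hS : ExpC S) (hT : ExpC T) :
    wlef w (fun m => S m * T m) = wlef w S * wlef w T := by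
  rw [(hS.rep.mul hT.rep).wlef_eq, wlef, wlef, Finset.sum_mul_sum, Finset.sum_product]
  refine Finset.sum_congr rfl fun i hi => Finset.sum_congr rfl fun j hj => ?_
  simp only [id]
  rw [hw i j (hS.rep.ne i hi) (hT.rep.ne j hj)]
  ring

theorem wlef_conj (hw : ∀ x, w (conj x) = conj (w x)) (hS : ExpC S) :
    wlef w (fun m => conj (S m)) = conj (wlef w S) := by
  rw [hS.rep.conj.wlef_eq, wlef, map_sum]
  refine Finset.sum_congr rfl fun i _ => ?_
  simp only [id]
  rw [hw, map_mul]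

theorem wlef_zero : wlef w (fun _ => 0) = 0 := by rw [rep_zero.wlef_eq]; simp

theorem wlef_sum {ι : Type*} (s : Finset ι) {f : ι → ℕ → ℂ} (hf : ∀ i ∈ s, ExpC (f i)) :
    wlef w (fun m => ∑ i ∈ s, f i m) = ∑ i ∈ s, wlef w (f i) := by
  classical
  induction s using Finset.induction_on with
  | empty => simpa using wlef_zero w
  | insert a s ha ih =>
    simp only [Finset.sum_insert ha]
    rw [wlef_add w (hf a (by simp)) (ExpC.sum s fun i hi => hf i (by simp [hi])),
      ih fun i hi => hf i (by simp [hi])]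

theorem lef_add (hS : ExpC S) (hT : ExpC T) : lef (fun m => S m + T m) = lef S + lef T :=
  wlef_add _ hS hT

theorem lef_smul (hS : ExpC S) (z : ℂ) : lef (fun m => z * S m) = z * lef S := wlef_smul _ hS z

theorem lef_mul_const (hS : ExpC S) (z : ℂ) : lef (fun m => S m * z) = lef S * z := by
  rw [mul_comm, ← lef_smul hS]; exact lef_congr fun _ _ => mul_comm _ _

theorem lef_neg (hS : ExpC S) : lef (fun m => - S m) = - lef S := by
  rw [← neg_one_mul, ← lef_smul hS]; exact lef_congr fun _ _ => by ring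

theorem lef_sub (hS : ExpC S) (hT : ExpC T) : lef (fun m => S m - T m) = lef S - lef T := by
  rw [sub_eq_add_neg, ← lef_neg hT, ← lef_add hS hT.neg]; exact lef_congr fun _ _ => by ring

theorem lef_mul (hS : ExpC S) (hT : ExpC T) : lef (fun m => S m * T m) = lef S * lef T :=
  wlef_mul _ (by simp) hS hT

theorem lef_conj (hS : ExpC S) : lef (fun m => conj (S m)) = conj (lef S) :=
  wlef_conj _ (by simp) hS

theorem lef_sum {ι : Type*} (s : Finset ι) {f : ι → ℕ → ℂ} (hf : ∀ i ∈ s, ExpC (f i)) :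
    lef (fun m => ∑ i ∈ s, f i m) = ∑ i ∈ s, lef (f i) := wlef_sum _ s hf

theorem lef_geom (z : ℂ) {x : ℂ} (hx : x ≠ 0) : lef (fun m => z * x ^ m) = z := by
  rw [(rep_geom z hx).lef_eq]; simp

theorem lef_pow {x : ℂ} (hx : x ≠ 0) : lef (fun m => x ^ m) = 1 := by
  rw [← lef_geom 1 hx]; exact lef_congr fun _ _ => (one_mul _).symm

theorem lef_const (z : ℂ) : lef (fun _ => z) = z := by
  conv_rhs => rw [← lef_geom z one_ne_zero]
  exact lef_congr fun _ _ => by simp

theorem lef_prod {ι : Type*} (s : Finset ι) {f : ι → ℕ → ℂ} (hf : ∀ i ∈ s, ExpC (f i)) :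
    lef (fun m => ∏ i ∈ s, f i m) = ∏ i ∈ s, lef (f i) := by
  classical
  induction s using Finset.induction_on with
  | empty => simpa using lef_const 1
  | insert a s ha ih =>
    simp only [Finset.prod_insert ha]
    rw [lef_mul (hf a (by simp)) (ExpC.prod s fun i hi => hf i (by simp [hi])),
      ih fun i hi => hf i (by simp [hi])]

theorem lef_npow (hS : ExpC S) (n : ℕ) : lef (fun m => S m ^ n) = lef S ^ n := by
  simpa using lef_prod (Finset.range n) (f := fun _ => S) fun _ _ => hS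

theorem lef_comp_mul (hS : ExpC S) {k : ℕ} (hk : 0 < k) : lef (fun m => S (k * m)) = lef S := by
  rw [(hS.rep.comp_mul hk).lef_eq, hS.rep.lef_eq]

/-- `(Q^m - 1) * S m` has Lefschetz number zero. -/
theorem lef_pow_sub_one_mul {x : ℂ} (hx : x ≠ 0) (hS : ExpC S) :
    lef (fun m => (x ^ m - 1) * S m) = 0 := by
  rw [lef_mul ((expC_pow hx).sub (expC_const 1)) hS, lef_sub (expC_pow hx) (expC_const 1),
    lef_pow hx, lef_const, sub_self, zero_mul]

theorem expC_aeval_pow {x : ℂ} (hx : x ≠ 0) (P : Polynomial ℂ) :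
    ExpC (fun m => P.eval (x ^ m)) := by
  simp only [Polynomial.eval_eq_sum_range]
  exact ExpC.sum _ fun i _ => ((expC_pow hx).pow i).smul _

/-- a polynomial in `Q^m` has Lefschetz number its value at `1` -/
theorem lef_eval_pow {x : ℂ} (hx : x ≠ 0) (P : Polynomial ℂ) :
    lef (fun m => P.eval (x ^ m)) = P.eval 1 := by
  simp only [Polynomial.eval_eq_sum_range]
  rw [lef_sum _ fun i _ => ((expC_pow hx).pow i).smul _]
  refine Finset.sum_congr rfl fun i _ => ?_
  rw [lef_smul ((expC_pow hx).pow i), lef_npow (expC_pow hx), lef_pow hx]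

end wlef

end Cfsg.Agent.DL.Lef
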